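import Groth.Agent.LimDesc.DescendQF
import Mathlib.AlgebraicGeometry.AlgClosed.Basic
import Mathlib.AlgebraicGeometry.Morphisms.FlatMono
import Mathlib.AlgebraicGeometry.Morphisms.Etale
import Mathlib.AlgebraicGeometry.Morphisms.QuasiFinite

/-!
# Morphisms that are injective on rational points over an algebraically closed field
-/

universe u

open CategoryTheory CategoryTheory.Limits AlgebraicGeometry

set_option linter.style.haveILetI false
set_option backward.isDefEq.respectTransparency false

namespace Groth.Agent.InjCl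

variable {k : Type u} [Field k] [IsAlgClosed k] {X Y : Scheme.{u}} {sX : X ⟶ Spec (CommRingCat.of k)}
  {sY : Y ⟶ Spec (CommRingCat.of k)} [LocallyOfFiniteType sX] [LocallyOfFiniteType sY]

/-- Injectivity on rational points implies local quasi-finiteness. -/
lemma locallyQuasiFinite_of_points (f : X ⟶ Y) [LocallyOfFiniteType f] (hf : f ≫ sY = sX)
    (hinj : ∀ a b : Spec (CommRingCat.of k) ⟶ X, a ≫ sX = 𝟙 _ → b ≫ sX = 𝟙 _ → a ≫ f = b ≫ f → a = b) :
    LocallyQuasiFinite f := by
  haveI : JacobsonSpace X := LocallyOfFiniteType.jacobsonSpace sX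
  haveI : JacobsonSpace Y := LocallyOfFiniteType.jacobsonSpace sY
  have himg : ∀ x : X, IsClosed ({x} : Set X) → IsClosed ({f x} : Set Y) := by
    intro x hx
    let p := pointOfClosedPoint sX x hx
    have h := ((pointEquivClosedPoint sY) ⟨p ≫ f, by rw [Category.assoc, hf, pointOfClosedPoint_comp]⟩).2
    simpa [p, mem_closedPoints_iff] using h
  have hcl : ∀ x x' : X, IsClosed ({x} : Set X) → IsClosed ({x'} : Set X) → f x = f x' → x = x' := by
    intro x x' hx hx' h
    have := hinj (pointOfClosedPoint sX x hx) (pointOfClosedPoint sX x' hx') (pointOfClosedPoint_comp ..)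
      (pointOfClosedPoint_comp ..) (ext_of_apply_closedPoint_eq sY
        (by rw [Category.assoc, hf, pointOfClosedPoint_comp]) (by rw [Category.assoc, hf, pointOfClosedPoint_comp])
        (by simp [h]))
    have h2 := congrArg (fun p => p (IsLocalRing.closedPoint k)) this
    simpa using h2
  have hq : ∀ x : X, IsClosed ({x} : Set X) → f.QuasiFiniteAt x := by
    intro x hx
    rw [Scheme.Hom.quasiFiniteAt_iff_isOpen_singleton_asFiber]
    have hce : Topology.IsClosedEmbedding (f.fiberι (f x)) :=
      ⟨(f.fiberι _).isEmbedding, by rw [f.range_fiberι]; exact (himg x hx).preimage f.continuous⟩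
    have hsub : closedPoints ↑(f.fiber (f x)) ⊆ {f.asFiber x} := by
      intro w hw
      have h1 : IsClosed ({f.fiberι (f x) w} : Set X) := by
        rw [← Set.image_singleton]
        exact hce.isClosedMap _ hw
      have h2 : f.fiberι (f x) w ∈ f ⁻¹' {f x} := f.range_fiberι (f x) ▸ Set.mem_range_self w
      exact hce.injective ((hcl _ _ h1 hx h2).trans (f.fiberι_asFiber x).symm)
    haveI := JacobsonSpace.discreteTopology ((Set.finite_singleton (f.asFiber x)).subset hsub)
    exact isOpen_discrete _
  refine LimDesc.locallyQuasiFinite_of_forall_quasiFiniteAt f fun x => by_contra fun hx => ?_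
  obtain ⟨x', hx', hc⟩ := nonempty_inter_closedPoints (Z := ({y | f.QuasiFiniteAt y} : Set X)ᶜ) ⟨x, hx⟩
    f.isOpen_quasiFiniteAt.isClosed_compl.isLocallyClosed
  exact hx' (hq x' hc)

/-- An étale morphism injective on rational points is a monomorphism. -/
lemma mono_of_points (f : X ⟶ Y) [Etale f] (hf : f ≫ sY = sX)
    (hinj : ∀ a b : Spec (CommRingCat.of k) ⟶ X, a ≫ sX = 𝟙 _ → b ≫ sX = 𝟙 _ → a ≫ f = b ≫ f → a = b) :
    Mono f := by
  haveI : LocallyOfFiniteType (pullback.fst f f ≫ sX) := inferInstance
  haveI : JacobsonSpace ↥(pullback f f) := LocallyOfFiniteType.jacobsonSpace (pullback.fst f f ≫ sX)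
  haveI : IsOpenImmersion (pullback.diagonal f) := inferInstance
  have hrange : Set.range (pullback.diagonal f) = Set.univ := by
    refine Set.eq_univ_of_forall fun z => by_contra fun hz => ?_
    obtain ⟨z', hz', hc⟩ := nonempty_inter_closedPoints (Z := (Set.range (pullback.diagonal f))ᶜ) ⟨z, hz⟩
      (pullback.diagonal f).isOpenEmbedding.isOpen_range.isClosed_compl.isLocallyClosed
    let p := pointOfClosedPoint (pullback.fst f f ≫ sX) z' hc
    have hp : p ≫ pullback.fst f f ≫ sX = 𝟙 _ := pointOfClosedPoint_comp ..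
    have he : p ≫ pullback.fst f f = p ≫ pullback.snd f f := hinj _ _ (by rw [Category.assoc, hp]) (by
      rw [← hf, Category.assoc, ← pullback.condition_assoc, hf, hp])
      (by rw [Category.assoc, Category.assoc, pullback.condition])
    have hd : p = (p ≫ pullback.fst f f) ≫ pullback.diagonal f := by
      apply pullback.hom_ext <;> simp [he]
    refine hz' ⟨(p ≫ pullback.fst f f) (IsLocalRing.closedPoint k), ?_⟩
    rw [← Scheme.Hom.comp_apply, ← hd, pointOfClosedPoint_apply]
  haveI : Surjective (pullback.diagonal f) := ⟨Set.range_eq_univ.1 hrange⟩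
  haveI : IsIso (pullback.diagonal f) := by
    rw [isIso_iff_isOpenImmersion_and_epi_base]
    exact ⟨inferInstance, (TopCat.epi_iff_surjective _).2 (Set.range_eq_univ.1 hrange)⟩
  have hps : pullback.fst f f = pullback.snd f f := by
    rw [← cancel_epi (pullback.diagonal f), pullback.diagonal_fst, pullback.diagonal_snd]
  refine ⟨fun a b h => ?_⟩
  rw [← pullback.lift_fst a b h, hps, pullback.lift_snd]

end Groth.Agent.InjCl
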